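import Groth.Prelude.Def_Cyc
import Groth.Agent.FDescent.QuasiFlat
import Groth.Agent.H23.FiniteFibreSum
import Mathlib.AlgebraicGeometry.PullbackCarrier
import Mathlib.RingTheory.DiscreteValuationRing.Basic

/-! The cycle of the scheme-theoretic closure of an open subscheme. -/

set_option autoImplicit false
set_option linter.style.haveILetI false
set_option backward.isDefEq.respectTransparency false
set_option backward.isDefEq.respectTransparency.types false

universe u

open CategoryTheory CategoryTheory.Limits AlgebraicGeometry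

namespace Groth.Agent.H9FlatCl

theorem stalk_length_eq_top {C : Scheme.{u}} {z z' : C} (h : z' ⤳ z) (hne : z' ≠ z) :
    (Module.length (C.presheaf.stalk z) (C.presheaf.stalk z)).toNat = 0 := by
  by_cases hfin : Module.length (C.presheaf.stalk z) (C.presheaf.stalk z) = ⊤
  · simp [hfin]
  exfalso
  haveI : IsArtinianRing (C.presheaf.stalk z) :=
    (isFiniteLength_iff_isNoetherian_isArtinian.1 (Module.length_ne_top_iff.1 hfin)).2
  have hmem : ∀ {w : C}, w ⤳ z → w ∈ Set.range (C.fromSpecStalk z).base := fun hw => by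
    rw [Scheme.range_fromSpecStalk]; exact hw
  obtain ⟨p, rfl⟩ := hmem h
  refine hne ?_
  have : p = IsLocalRing.closedPoint (C.presheaf.stalk z) :=
    PrimeSpectrum.ext (IsLocalRing.eq_maximalIdeal (Ideal.IsPrime.isMaximal' p.isPrime))
  rw [this]
  exact Scheme.fromSpecStalk_closedPoint

theorem isOpenImmersion_toImage {W Y : Scheme.{u}} (g : W ⟶ Y) [IsOpenImmersion g] :
    IsOpenImmersion g.toImage := by
  have h : IsPullback g.toImage (𝟙 W) g.imageι g := by
    refine ⟨⟨by simp⟩, ⟨PullbackCone.isLimitAux' _ fun s => ⟨s.snd, ?_, ?_, ?_⟩⟩⟩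
    · rw [← cancel_mono g.imageι]
      simp [s.condition]
    · exact Category.comp_id _
    · intro m _ hm
      exact (Category.comp_id m).symm.trans hm
  exact MorphismProperty.of_isPullback h.flip inferInstance

theorem subschemeFun_closure {W Y X' X'' : Scheme.{u}} (g : W ⟶ Y) [IsOpenImmersion g] [QuasiCompact g]
    (j : Y ⟶ X') (e : X'' ⟶ X') [IsOpenImmersion e] (w : W ⟶ X'') (hw : w ≫ e = g ≫ j)
    (hrange : Set.range g.base = j.base ⁻¹' Set.range e.base) (t : X') :
    Cyc.subschemeFun (fun _ => (0 : ℤ)) 0 (g.ker.subschemeι ≫ j) t =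
      ∑ᶠ t' ∈ {t' : X'' | e t' = t}, Cyc.subschemeFun (fun _ => (0 : ℤ)) 0 w t' := by
  classical
  haveI := isOpenImmersion_toImage g
  have himg : ∀ z : g.image, g.imageι z ∈ Set.range g.base → ∃ z', g.toImage z' = z := fun z ⟨z', hz'⟩ =>
    ⟨z', g.imageι.isEmbedding.injective (by rw [← Scheme.Hom.comp_apply, Scheme.Hom.toImage_imageι]; exact hz')⟩
  simp only [Cyc.subschemeFun, if_true]
  by_cases ht : t ∈ Set.range e.base
  · obtain ⟨t', rfl⟩ := ht
    rw [show {s : X'' | e s = e t'} = {t'} from Set.ext fun s => e.isOpenEmbedding.injective.eq_iff, finsum_mem_singleton]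
    rw [show {z : g.image | (g.imageι ≫ j) z = e t'} = g.toImage.base '' {z' | w z' = t'} from ?_,
      finsum_mem_image g.toImage.isOpenEmbedding.injective.injOn]
    · refine finsum_mem_congr rfl fun z' _ => ?_
      rw [Groth.Agent.H23.FiniteFibreSum.length_self_of_bijective (g.toImage.stalkMap z').hom
        (ConcreteCategory.bijective_of_isIso (g.toImage.stalkMap z'))]
    · ext z
      constructor
      · intro hz
        obtain ⟨z', rfl⟩ := himg z (by rw [hrange]; exact ⟨t', hz.symm⟩)
        refine ⟨z', e.isOpenEmbedding.injective ?_, rfl⟩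
        show (w ≫ e) z' = e t'
        rw [hw, ← hz]
        show (g ≫ j) z' = (g.toImage ≫ g.imageι ≫ j) z'
        rw [Scheme.Hom.toImage_imageι_assoc]
      · rintro ⟨z', hz', rfl⟩
        show (g.toImage ≫ g.imageι ≫ j) z' = e t'
        rw [Scheme.Hom.toImage_imageι_assoc, ← hw, Scheme.Hom.comp_apply, hz']
  · rw [show {s : X'' | e s = t} = ∅ from Set.eq_empty_of_forall_notMem fun s hs => ht ⟨s, hs⟩, finsum_mem_empty]
    refine finsum_mem_of_eqOn_zero fun z hz => ?_
    obtain ⟨z', hz'⟩ := Groth.Agent.FDescent.exists_specializes_of_mem_closure_range g.toImage (y := z)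
      (by rw [g.toImage.denseRange.closure_range]; trivial)
    refine Nat.cast_eq_zero.2 (stalk_length_eq_top hz' ?_)
    rintro rfl
    refine ht ?_
    have h1 : j (g z') ∈ Set.range e.base := hrange.subset ⟨z', rfl⟩
    rwa [← hz, show (g.imageι ≫ j) (g.toImage z') = j (g z') by
      rw [← Scheme.Hom.comp_apply, Scheme.Hom.toImage_imageι_assoc, Scheme.Hom.comp_apply]]

theorem isOpenImmersion_generic (R : Type u) [CommRing R] [IsDomain R] [IsDiscreteValuationRing R] :
    IsOpenImmersion (Spec.map (CommRingCat.ofHom (algebraMap R (FractionRing R)))) := by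
  obtain ⟨ϖ, hϖ⟩ := IsDiscreteValuationRing.exists_irreducible R
  haveI : IsLocalization.Away ϖ (FractionRing R) := by
    refine IsLocalization.Away.mk ϖ ?_ ?_ ?_
    · exact isUnit_iff_ne_zero.2 (by simpa using hϖ.ne_zero)
    · intro z
      obtain ⟨a, b, hb, rfl⟩ := IsFractionRing.div_surjective (A := R) z
      obtain ⟨n, hn⟩ := IsDiscreteValuationRing.associated_pow_irreducible (nonZeroDivisors.ne_zero hb) hϖ
      obtain ⟨v, hv⟩ := hn
      refine ⟨n, a * v, ?_⟩
      have hb0 : algebraMap R (FractionRing R) b ≠ 0 := by simpa using nonZeroDivisors.ne_zero hb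
      rw [map_mul, ← map_pow, ← hv, map_mul]
      field_simp
    · intro a b h
      exact ⟨0, by simpa using IsFractionRing.injective R (FractionRing R) h⟩
  exact IsOpenImmersion.of_isLocalization ϖ

end Groth.Agent.H9FlatCl
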